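import Groth.Agent.Lib.ParaGr27.Depth
import Groth.Agent.Lib.LocCoh.Seq
import Groth.Agent.Lib.LocCoh.Finite

/-!
# Duals of modules which are locally free off the closed point, when `gr_J A` is free
-/

set_option autoImplicit false
set_option linter.style.haveILetI false

universe u

open IsLocalRing

noncomputable section

namespace Groth.Agent.ParaGr27

open Groth.Agent.LocCohLib Groth.Agent.InjHullLib

variable {A : Type u} [CommRing A] [IsLocalRing A]
variable {M : Type u} [AddCommGroup M] [Module A M]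

/-- A quasi-inverse to a free module after inverting any element of the maximal ideal. -/
def Fac (A : Type u) [CommRing A] [IsLocalRing A] (M : Type u) [AddCommGroup M] [Module A M] : Prop :=
  ∀ a ∈ maximalIdeal A, ∃ (r k : ℕ) (f : M →ₗ[A] (Fin r → A)) (g : (Fin r → A) →ₗ[A] M),
    g ∘ₗ f = a ^ k • LinearMap.id

variable [IsNoetherianRing A]
variable {X Y Z : Type u} [AddCommGroup X] [Module A X] [AddCommGroup Y] [Module A Y] [AddCommGroup Z] [Module A Z]

/-- Abbreviation for the two vanishings of low degree. -/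
abbrev Van (A : Type u) [CommRing A] [IsLocalRing A] (X : Type u) [AddCommGroup X] [Module A X] (i : ℕ) : Prop :=
  Subsingleton (LocCoh.H (maximalIdeal A) i X)

theorem powTors_hom_eq_bot (h : powTors (maximalIdeal A) X = ⊥) : powTors (maximalIdeal A) (M →ₗ[A] X) = ⊥ := by
  rw [eq_bot_iff]
  intro f hf
  obtain ⟨n, hn⟩ := mem_powTors_iff.1 hf
  refine (Submodule.mem_bot A).2 (LinearMap.ext fun x => ?_)
  rw [LinearMap.zero_apply, ← Submodule.mem_bot A, ← h, mem_powTors_iff]
  exact ⟨n, fun r hr => by rw [← LinearMap.smul_apply, hn r hr, LinearMap.zero_apply]⟩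

theorem van_zero_hom (h : Van A X 0) : Van A (M →ₗ[A] X) 0 :=
  (subsingleton_zero_iff _).2 (powTors_hom_eq_bot ((subsingleton_zero_iff _).1 h))

theorem van_one_hom [Module.Finite A M] (h0 : Van A X 0) (h1 : Van A X 1) : Van A (M →ₗ[A] X) 1 := by
  obtain ⟨r, π, hπ⟩ := Module.Finite.exists_fin' A M
  let F : (M →ₗ[A] X) →ₗ[A] (Fin r → X) := (LinearMap.pi fun j => LinearMap.applyₗ (π (Pi.single j 1)))
  let G : (Fin r → X) →ₗ[A] (LinearMap.ker π →ₗ[A] X) :=
    { toFun := fun v => ((Pi.basisFun A (Fin r)).constr A v) ∘ₗ (LinearMap.ker π).subtype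
      map_add' := fun v w => by rw [map_add, LinearMap.add_comp]
      map_smul' := fun c v => by rw [map_smul, LinearMap.smul_comp]; rfl }
  have hF : Function.Injective F := fun f g hfg =>
    (LinearMap.cancel_right hπ).1 ((Pi.basisFun A (Fin r)).ext fun j => by
      rw [Pi.basisFun_apply]
      exact congrFun hfg j)
  have hFG : Function.Exact F G.rangeRestrict := by
    intro v
    rw [show G.rangeRestrict v = 0 ↔ G v = 0 from Subtype.ext_iff, Set.mem_range]
    constructor
    · intro hv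
      have hle : LinearMap.ker π ≤ LinearMap.ker ((Pi.basisFun A (Fin r)).constr A v) := fun k hk =>
        LinearMap.congr_fun hv ⟨k, hk⟩
      refine ⟨(LinearMap.ker π).liftQ _ hle ∘ₗ (π.quotKerEquivOfSurjective hπ).symm.toLinearMap, funext fun j => ?_⟩
      show (LinearMap.ker π).liftQ _ hle ((π.quotKerEquivOfSurjective hπ).symm (π (Pi.single j 1))) = v j
      rw [show (π.quotKerEquivOfSurjective hπ).symm (π (Pi.single j 1)) = Submodule.Quotient.mk (Pi.single j 1) from
        (π.quotKerEquivOfSurjective hπ).injective (by simp), Submodule.liftQ_apply, ← Pi.basisFun_apply,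
        Module.Basis.constr_basis]
    · rintro ⟨f, rfl⟩
      refine LinearMap.ext fun k => ?_
      have hc : (Pi.basisFun A (Fin r)).constr A (F f) = f ∘ₗ π := (Pi.basisFun A (Fin r)).ext fun j => by
        rw [Module.Basis.constr_basis, Pi.basisFun_apply]
        rfl
      show (Pi.basisFun A (Fin r)).constr A (F f) k.1 = 0
      rw [hc, LinearMap.comp_apply, LinearMap.mem_ker.1 k.2, map_zero]
  refine subsingleton_left _ hF G.surjective_rangeRestrict hFG 0 ?_ (subsingleton_pi _ 1 X h1 r)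
  rw [subsingleton_zero_iff, eq_bot_iff]
  intro w hw
  obtain ⟨n, hn⟩ := mem_powTors_iff.1 hw
  refine (Submodule.mem_bot A).2 (Subtype.ext ?_)
  have hk : powTors (maximalIdeal A) (LinearMap.ker π →ₗ[A] X) = ⊥ :=
    powTors_hom_eq_bot ((subsingleton_zero_iff _).1 h0)
  rw [ZeroMemClass.coe_zero, ← Submodule.mem_bot A, ← hk, mem_powTors_iff]
  exact ⟨n, fun r hr => congrArg Subtype.val (hn r hr)⟩

/-- A map with power torsion cokernel is surjective under low vanishing. -/
theorem surjective_of_van (f : X →ₗ[A] Y) (g : Y →ₗ[A] Z) (hf : Function.Injective f) (hfg : Function.Exact f g)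
    (hQ : LocCoh.IsPowerTorsion (maximalIdeal A) (Z ⧸ LinearMap.range g)) (hX : Van A X 2) (hY : Van A Y 1)
    (hZ : Van A Z 0) : Function.Surjective g := by
  have he : Function.Exact f g.rangeRestrict := fun y =>
    Iff.trans Subtype.ext_iff (hfg y)
  have h1 : Van A (LinearMap.range g) 1 :=
    subsingleton_right _ hf g.surjective_rangeRestrict he 1 hY hX
  have h0 : Van A (Z ⧸ LinearMap.range g) 0 :=
    subsingleton_right _ (LinearMap.range g).injective_subtype (Submodule.mkQ_surjective _)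
      (LinearMap.exact_subtype_mkQ _) 0 hZ h1
  intro z
  rw [← LinearMap.mem_range, ← Submodule.Quotient.mk_eq_zero, ← Submodule.mem_bot A,
    ← (subsingleton_zero_iff _).1 h0, mem_powTors_iff]
  exact hQ _

/-- A linear map surjective, composed with maps out of `M`, has torsion cokernel. -/
theorem isPowerTorsion_coker_compRight (hM : Fac A M) (g : Y →ₗ[A] Z) (hg : Function.Surjective g) :
    LocCoh.IsPowerTorsion (maximalIdeal A)
      ((M →ₗ[A] Z) ⧸ LinearMap.range (g.compRight A (M := M))) := by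
  intro q
  obtain ⟨θ, rfl⟩ := Submodule.Quotient.mk_surjective _ q
  have hle : maximalIdeal A ≤ Ideal.radical ((LinearMap.range (g.compRight A (M := M))).comap
      (LinearMap.toSpanSingleton A _ θ) : Ideal A) := by
    intro a ha
    obtain ⟨r, k, f, h, hk⟩ := hM a ha
    obtain ⟨Ψ, hΨ⟩ := Module.projective_lifting_property g (θ ∘ₗ h) hg
    refine ⟨k, Ψ ∘ₗ f, LinearMap.ext fun x => ?_⟩
    show g (Ψ (f x)) = a ^ k • θ x
    rw [← map_smul]
    exact (LinearMap.congr_fun hΨ (f x)).trans (congrArg θ (LinearMap.congr_fun hk x))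
  obtain ⟨n, hn⟩ := Ideal.exists_pow_le_of_le_radical_of_fg hle (IsNoetherian.noetherian _)
  exact ⟨n, fun a ha => by rw [← Submodule.Quotient.mk_smul, Submodule.Quotient.mk_eq_zero]; exact hn ha⟩

variable {J : Ideal A}

/-- The reduction map. -/
abbrev red (J : Ideal A) (n : ℕ) : Qn J (n + 1) →ₗ[A] Qn J n :=
  Submodule.factor (Ideal.pow_le_pow_right (Nat.le_succ (n + 1)))

/-- The graded piece `J ^ (n + 1) ⧸ J ^ (n + 2)`. -/
abbrev Gr (J : Ideal A) (n : ℕ) : Submodule A (Qn J (n + 1)) :=
  Submodule.map (J ^ (n + 1 + 1)).mkQ (J ^ (n + 1))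

omit [IsLocalRing A] [IsNoetherianRing A] in
theorem ker_red (n : ℕ) : LinearMap.ker (red J n) = Gr J n := by
  ext z
  obtain ⟨a, rfl⟩ := Submodule.Quotient.mk_surjective _ z
  rw [LinearMap.mem_ker]
  constructor
  · intro h
    exact ⟨a, (Submodule.Quotient.mk_eq_zero _).1 h, rfl⟩
  · rintro ⟨b, hb, hab⟩
    rw [← hab]
    exact (Submodule.Quotient.mk_eq_zero _).2 hb

omit [IsLocalRing A] [IsNoetherianRing A] in
theorem exact_subtype_red (n : ℕ) : Function.Exact (Gr J n).subtype (red J n) := by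
  rw [LinearMap.exact_iff, ker_red, Submodule.range_subtype]

omit [IsLocalRing A] [IsNoetherianRing A] in
theorem red_surjective (n : ℕ) : Function.Surjective (red J n) := Submodule.factor_surjective _

/-- The graded pieces are free of finite rank over `A ⧸ J`. -/
def GrFree (J : Ideal A) : Prop := ∀ n, ∃ r, Nonempty (Gr J n ≃ₗ[A] (Fin r → Qn J 0))

omit [IsLocalRing A] in
theorem grFree_of_free (hgr : ∀ n : ℕ, Module.Free (A ⧸ J) (↥(J ^ n) ⧸ (J • (⊤ : Submodule A ↥(J ^ n))))) :
    GrFree J := by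
  intro n
  let φ : ↥(J ^ (n + 1)) →ₗ[A] Gr J n :=
    ((J ^ (n + 1 + 1)).mkQ ∘ₗ (J ^ (n + 1)).subtype).codRestrict _ fun x => ⟨x.1, x.2, rfl⟩
  have hφ : Function.Surjective φ := by
    rintro ⟨_, b, hb, rfl⟩
    exact ⟨⟨b, hb⟩, rfl⟩
  have hker : LinearMap.ker φ = J • (⊤ : Submodule A ↥(J ^ (n + 1))) := by
    apply Submodule.map_injective_of_injective (J ^ (n + 1)).injective_subtype
    rw [Submodule.map_smul'', Submodule.map_top, Submodule.range_subtype,
      show J • J ^ (n + 1) = J ^ (n + 1 + 1) by rw [Ideal.smul_eq_mul, ← pow_succ']]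
    ext a
    simp only [Submodule.mem_map, LinearMap.mem_ker, Subtype.ext_iff]
    constructor
    · rintro ⟨x, hx, rfl⟩
      exact (Submodule.Quotient.mk_eq_zero _).1 hx
    · exact fun ha => ⟨⟨a, Ideal.pow_le_pow_right (Nat.le_succ _) ha⟩, (Submodule.Quotient.mk_eq_zero _).2 ha, rfl⟩
  haveI := hgr (n + 1)
  haveI : Module.Finite (A ⧸ J) (↥(J ^ (n + 1)) ⧸ (J • (⊤ : Submodule A ↥(J ^ (n + 1))))) :=
    Module.Finite.of_restrictScalars_finite A _ _
  let b₀ := Module.Free.chooseBasis (A ⧸ J) (↥(J ^ (n + 1)) ⧸ (J • (⊤ : Submodule A ↥(J ^ (n + 1)))))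
  haveI : Finite (Module.Free.ChooseBasisIndex (A ⧸ J) (↥(J ^ (n + 1)) ⧸ (J • (⊤ : Submodule A ↥(J ^ (n + 1)))))) := inferInstance
  let b := b₀.reindex (Finite.equivFin _)
  exact ⟨_, ⟨(φ.quotKerEquivOfSurjective hφ).symm.trans ((Submodule.quotEquivOfEq _ _ hker).trans
    ((b.equivFun.restrictScalars A).trans
      (LinearEquiv.piCongrRight fun _ => Submodule.quotEquivOfEq _ _ (pow_one J).symm)))⟩⟩

variable (hgr : GrFree J) (hd : ∀ i < 3, Van A (Qn J 0) i)

include hgr hd in
theorem van_Qn : ∀ (n : ℕ) (i : ℕ), i < 3 → Van A (Qn J n) i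
  | 0 => hd
  | n + 1 => fun i hi => by
    obtain ⟨r, ⟨e⟩⟩ := hgr n
    exact subsingleton_mid _ (Gr J n).injective_subtype (red_surjective n) (exact_subtype_red n) i
      (@Equiv.subsingleton _ _ (hcongr _ i e).toEquiv (subsingleton_pi _ i _ (hd i hi) r)) (van_Qn n i hi)

include hgr hd in
theorem three_le_depth_self (hJ : J ≠ ⊤) : (3 : ℕ∞) ≤ LocCoh.depth A A :=
  natCast_le_depth_self hJ 3 fun n i hi => van_Qn hgr hd n i hi

variable (hM : Fac A M) [Module.Finite A M] (e1 : (M →ₗ[A] Qn J 0) ≃ₗ[A] Qn J 0)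

include hgr hd hM e1 in
theorem compRight_red_surjective (n : ℕ) : Function.Surjective ((red J n).compRight A (M := M)) := by
  obtain ⟨r, ⟨e⟩⟩ := hgr n
  refine surjective_of_van ((Gr J n).subtype.compRight A (M := M)) _ (fun f g h =>
      (LinearMap.cancel_left (Gr J n).injective_subtype).1 h) (fun f => ⟨fun hf => ?_, ?_⟩)
    (isPowerTorsion_coker_compRight hM _ (red_surjective n)) ?_
    (van_one_hom (van_Qn hgr hd _ 0 (by omega)) (van_Qn hgr hd _ 1 (by omega)))
    (van_zero_hom (van_Qn hgr hd _ 0 (by omega)))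
  · exact ⟨f.codRestrict _ fun x => (ker_red n).le (LinearMap.congr_fun hf x), LinearMap.ext fun x => rfl⟩
  · rintro ⟨g, rfl⟩
    exact LinearMap.ext fun x => (ker_red n).ge (g x).2
  · let E : (M →ₗ[A] Gr J n) ≃ₗ[A] (Fin r → Qn J 0) :=
      { toFun := fun f j => e1 (LinearMap.proj j ∘ₗ e.toLinearMap ∘ₗ f)
        map_add' := fun f g => funext fun j => by simp [LinearMap.comp_add, map_add]
        map_smul' := fun c f => funext fun j => by simp [LinearMap.comp_smul, map_smul]
        invFun := fun v => e.symm.toLinearMap ∘ₗ LinearMap.pi fun j => e1.symm (v j)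
        left_inv := fun f => LinearMap.ext fun x => e.injective (funext fun j => by simp)
        right_inv := fun v => funext fun j => by
          refine (congrArg e1 (LinearMap.ext fun x => ?_)).trans (e1.apply_symm_apply _)
          simp }
    exact @Equiv.subsingleton _ _ (hcongr _ 2 E).toEquiv (subsingleton_pi _ 2 _ (hd 2 (by omega)) r)

/-- `θ` generates the maps to `A ⧸ J ^ (n + 1)` freely. -/
def IsGenAt (n : ℕ) (θ : M →ₗ[A] Qn J n) : Prop :=
  (∀ f : M →ₗ[A] Qn J n, ∃ c : A, f = c • θ) ∧ ∀ c : A, c • θ = 0 → c ∈ J ^ (n + 1)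

omit [IsNoetherianRing A] [Module.Finite A M] in
theorem isGenAt_zero : IsGenAt 0 (e1.symm (Submodule.Quotient.mk 1)) := by
  constructor
  · intro f
    obtain ⟨c, hc⟩ := Submodule.Quotient.mk_surjective _ (e1 f)
    refine ⟨c, e1.injective ?_⟩
    rw [map_smul, e1.apply_symm_apply, ← Submodule.Quotient.mk_smul, smul_eq_mul, mul_one, hc]
  · intro c hc
    have := congrArg e1 hc
    rw [map_smul, e1.apply_symm_apply, map_zero, ← Submodule.Quotient.mk_smul, smul_eq_mul, mul_one] at this
    exact (Submodule.Quotient.mk_eq_zero _).1 this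

omit [IsNoetherianRing A] [Module.Finite A M] in
include hgr in
/-- Any lift of a generator is a generator. -/
theorem isGenAt_of_lift {θ0 : M →ₗ[A] Qn J 0} (h0 : IsGenAt 0 θ0) {n : ℕ} {θ' : M →ₗ[A] Qn J (n + 1)}
    (h : IsGenAt n (red J n ∘ₗ θ'))
    (hθ : Submodule.factor (Ideal.pow_le_pow_right (by omega : 1 ≤ n + 1 + 1)) ∘ₗ θ' = θ0) :
    IsGenAt (n + 1) θ' := by
  obtain ⟨r, ⟨e⟩⟩ := hgr n
  choose b hb hbe using fun j : Fin r => (e.symm (Pi.single j (Submodule.Quotient.mk 1))).2
  have hsum : ∀ v : Fin r → A, ((e.symm fun j => Submodule.Quotient.mk (v j)) : Qn J (n + 1)) =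
      Submodule.Quotient.mk (∑ j, v j * b j) := fun v => by
    have : (fun j => (Submodule.Quotient.mk (v j) : Qn J 0)) =
        ∑ j, v j • (Pi.single j (Submodule.Quotient.mk 1) : Fin r → Qn J 0) := by
      ext j
      simp [Finset.sum_apply, Pi.single_apply]
      rw [Algebra.smul_def, mul_one]
      rfl
    rw [this, map_sum, Submodule.coe_sum, ← Submodule.mkQ_apply (J ^ (n + 1 + 1)), map_sum]
    refine Finset.sum_congr rfl fun j _ => ?_
    rw [map_smul, Submodule.coe_smul, ← hbe, ← map_smul, smul_eq_mul]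
  choose a ha using fun x => Submodule.Quotient.mk_surjective _ (θ' x)
  have hθ0 : ∀ x, θ0 x = Submodule.Quotient.mk (a x) := fun x => by
    rw [← hθ, LinearMap.comp_apply, ← ha]
    rfl
  have hker : ∀ f : M →ₗ[A] Qn J (n + 1), red J n ∘ₗ f = 0 → ∃ c : A, f = c • θ' := by
    intro f hf
    have hmem : ∀ x, f x ∈ Gr J n := fun x => (ker_red n).le (LinearMap.congr_fun hf x)
    let f' : Fin r → (M →ₗ[A] Qn J 0) := fun j => LinearMap.proj j ∘ₗ e.toLinearMap ∘ₗ f.codRestrict _ hmem
    choose c hc using fun j => h0.1 (f' j)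
    refine ⟨∑ j, c j * b j, LinearMap.ext fun x => ?_⟩
    have he : e (f.codRestrict _ hmem x) = fun j => Submodule.Quotient.mk (c j * a x) := funext fun j => by
      refine (LinearMap.congr_fun (hc j) x).trans ?_
      rw [LinearMap.smul_apply, hθ0, ← Submodule.Quotient.mk_smul, smul_eq_mul]
    have := congrArg (fun v => ((e.symm v : Gr J n) : Qn J (n + 1))) he
    simp only [LinearEquiv.symm_apply_apply, hsum] at this
    refine this.trans ?_
    rw [LinearMap.smul_apply, ← ha, ← Submodule.Quotient.mk_smul, smul_eq_mul, Finset.sum_mul]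
    exact congrArg _ (Finset.sum_congr rfl fun j _ => by ring)
  refine ⟨fun f => ?_, fun c hc => ?_⟩
  · obtain ⟨c, hc⟩ := h.1 (red J n ∘ₗ f)
    obtain ⟨d, hd⟩ := hker (f - c • θ') (by rw [LinearMap.comp_sub, LinearMap.comp_smul, hc, sub_self])
    exact ⟨c + d, by rw [add_smul, ← hd, add_sub_cancel]⟩
  · have h1 : c ∈ J ^ (n + 1) := h.2 c (by rw [← LinearMap.comp_smul, hc, LinearMap.comp_zero])
    let γ : Gr J n := ⟨Submodule.Quotient.mk c, c, h1, rfl⟩
    choose v hv using fun j => Submodule.Quotient.mk_surjective _ (e γ j)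
    have hγ : ∀ x, a x • γ = 0 := fun x => Subtype.ext (by
      show a x • (Submodule.Quotient.mk c : Qn J (n + 1)) = 0
      rw [← Submodule.Quotient.mk_smul, smul_eq_mul, mul_comm, ← smul_eq_mul, Submodule.Quotient.mk_smul, ha,
        ← LinearMap.smul_apply, hc, LinearMap.zero_apply])
    have hz : e γ = 0 := funext fun j => by
      rw [← hv, Pi.zero_apply, Submodule.Quotient.mk_eq_zero]
      refine h0.2 (v j) (LinearMap.ext fun x => ?_)
      have := congrFun (congrArg e (hγ x)) j
      rw [map_smul, map_zero, Pi.smul_apply, Pi.zero_apply, ← hv, ← Submodule.Quotient.mk_smul, smul_eq_mul] at this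
      rw [LinearMap.smul_apply, hθ0, ← Submodule.Quotient.mk_smul, smul_eq_mul, mul_comm]
      exact this
    exact (Submodule.Quotient.mk_eq_zero _).1 (congrArg Subtype.val (e.injective (hz.trans (map_zero e).symm)))

include hgr hd hM e1 in
/-- The dual of `M` is free of rank one. -/
theorem nonempty_dual_equiv (hJ : J ≠ ⊤) : Nonempty ((M →ₗ[A] A) ≃ₗ[A] A) := by
  classical
  choose lift hlift using fun n => compRight_red_surjective hgr hd hM e1 n
  let θ0 : M →ₗ[A] Qn J 0 := e1.symm (Submodule.Quotient.mk 1)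
  let θ : ∀ n, M →ₗ[A] Qn J n := fun n => Nat.rec θ0 (fun m t => lift m t) n
  have hcompat : ∀ n, red J n ∘ₗ θ (n + 1) = θ n := fun n => hlift n (θ n)
  let q : ∀ n, Qn J n →ₗ[A] Qn J 0 := fun n => Submodule.factor (Ideal.pow_le_pow_right (by omega : 1 ≤ n + 1))
  have hq : ∀ n, q n ∘ₗ θ n = θ0 := by
    intro n
    induction n with
    | zero =>
      refine LinearMap.ext fun x => ?_
      obtain ⟨a, ha⟩ := Submodule.Quotient.mk_surjective _ (θ0 x)
      show (q 0) (θ0 x) = θ0 x
      rw [← ha]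
      rfl
    | succ n ih =>
      rw [← ih, ← hcompat n, ← LinearMap.comp_assoc]
      congr 1
      exact Submodule.linearMap_qext _ (LinearMap.ext fun a => rfl)
  have hgen : ∀ n, IsGenAt n (θ n) := by
    intro n
    induction n with
    | zero => exact isGenAt_zero e1
    | succ n ih => exact isGenAt_of_lift hgr (isGenAt_zero e1) (by rw [hcompat]; exact ih) (hq (n + 1))
  obtain ⟨r, π, hπ⟩ := Module.Finite.exists_fin' A M
  obtain ⟨s, σ, hσ⟩ := Module.Finite.exists_fin' A (LinearMap.ker π)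
  let ev : (Fin r → A) →ₗ[A] ((Fin r → A) →ₗ[A] A) := ((Pi.basisFun A (Fin r)).constr A).toLinearMap
  let R : (Fin r → A) →ₗ[A] (Fin s → A) :=
    LinearMap.pi fun t => LinearMap.applyₗ (σ (Pi.single t 1) : Fin r → A) ∘ₗ ev
  have hR : ∀ v, R v = 0 → ∃ g : M →ₗ[A] A, g ∘ₗ π = ev v := fun v hv => by
    have hle : LinearMap.ker π ≤ LinearMap.ker (ev v) := by
      intro k hk
      have h0 : (ev v ∘ₗ (LinearMap.ker π).subtype) ∘ₗ σ = 0 := (Pi.basisFun A (Fin s)).ext fun t => by
        rw [Pi.basisFun_apply]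
        exact congrFun hv t
      obtain ⟨z, hz⟩ := hσ ⟨k, hk⟩
      have := LinearMap.congr_fun h0 z
      rw [LinearMap.comp_apply, hz] at this
      exact this
    refine ⟨(LinearMap.ker π).liftQ _ hle ∘ₗ (π.quotKerEquivOfSurjective hπ).symm.toLinearMap, LinearMap.ext fun x => ?_⟩
    show (LinearMap.ker π).liftQ _ hle ((π.quotKerEquivOfSurjective hπ).symm (π x)) = _
    rw [show (π.quotKerEquivOfSurjective hπ).symm (π x) = Submodule.Quotient.mk x from
      (π.quotKerEquivOfSurjective hπ).injective (by simp)]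
    rfl
  -- a map to `A` reducing to the generator
  obtain ⟨k, hk⟩ := J.exists_pow_inf_eq_pow_smul (LinearMap.range R)
  choose y hy using fun j : Fin r => Submodule.Quotient.mk_surjective _ (θ (k + 1) (π (Pi.single j 1)))
  have hev : (J ^ (k + 1 + 1)).mkQ ∘ₗ ev y = θ (k + 1) ∘ₗ π := (Pi.basisFun A (Fin r)).ext fun j => by
    rw [LinearMap.comp_apply, show ev y (Pi.basisFun A (Fin r) j) = y j from
      Module.Basis.constr_basis _ A y j, Submodule.mkQ_apply, hy, LinearMap.comp_apply, Pi.basisFun_apply]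
  have hRy : R y ∈ J ^ (k + 1 + 1) • (⊤ : Submodule A (Fin s → A)) ⊓ LinearMap.range R := by
    refine ⟨mem_pow_smul_top_of_coord _ _ fun t => (Submodule.Quotient.mk_eq_zero _).1 ?_, y, rfl⟩
    refine (LinearMap.congr_fun hev (σ (Pi.single t 1) : Fin r → A)).trans ?_
    rw [LinearMap.comp_apply, LinearMap.mem_ker.1 (σ (Pi.single t 1)).2, map_zero]
  rw [hk _ (by omega)] at hRy
  have hRy' : R y ∈ (J • (⊤ : Submodule A (Fin r → A))).map R := by
    rw [Submodule.map_smul'', Submodule.map_top]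
    exact Submodule.smul_mono (Ideal.pow_le_self (by omega)) inf_le_right hRy
  obtain ⟨z, hz, hRz⟩ := hRy'
  obtain ⟨g, hg⟩ := hR (y - z) (by rw [map_sub, hRz, sub_self])
  have hg0 : (J ^ (0 + 1)).mkQ ∘ₗ g = θ0 := by
    refine (LinearMap.cancel_right hπ).1 ((Pi.basisFun A (Fin r)).ext fun j => ?_)
    rw [LinearMap.comp_assoc, hg, LinearMap.comp_apply, show ev (y - z) ((Pi.basisFun A (Fin r)) j) = (y - z) j from Module.Basis.constr_basis _ A (y - z) j, Submodule.mkQ_apply, Pi.sub_apply,
      Submodule.Quotient.mk_sub, show (Submodule.Quotient.mk (z j) : Qn J 0) = 0 from ?_, sub_zero, Pi.basisFun_apply,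
      LinearMap.comp_apply, ← hq (k + 1), LinearMap.comp_apply, ← hy]
    · rfl
    · rw [Submodule.Quotient.mk_eq_zero, zero_add, pow_one]
      have : (J • (⊤ : Submodule A (Fin r → A))).map (LinearMap.proj j) ≤ J := by
        rw [Submodule.map_smul'']
        exact (Submodule.smul_mono le_rfl le_top).trans (by rw [Ideal.smul_eq_mul, Ideal.mul_top])
      exact this ⟨z, hz, rfl⟩
  have hgenA : ∀ n, IsGenAt n ((J ^ (n + 1)).mkQ ∘ₗ g) := by
    intro n
    induction n with
    | zero => rw [hg0]; exact isGenAt_zero e1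
    | succ n ih =>
      refine isGenAt_of_lift hgr (isGenAt_zero e1) ?_ ?_
      · rw [← LinearMap.comp_assoc, show red J n ∘ₗ (J ^ (n + 1 + 1)).mkQ = (J ^ (n + 1)).mkQ from LinearMap.ext fun a => rfl]
        exact ih
      · rw [← LinearMap.comp_assoc]
        exact Eq.trans (congrArg (· ∘ₗ g) (LinearMap.ext fun a => rfl)) hg0
  refine ⟨(LinearEquiv.ofBijective (LinearMap.toSpanSingleton A _ g) ⟨?_, fun h => ?_⟩).symm⟩
  · rw [injective_iff_map_eq_zero]
    intro c hc
    rw [← Submodule.mem_bot A, ← Ideal.iInf_pow_eq_bot_of_isLocalRing J hJ, Submodule.mem_iInf]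
    intro n
    refine Ideal.pow_le_pow_right n.le_succ ((hgenA n).2 c ?_)
    rw [← LinearMap.comp_smul]
    exact (congrArg _ hc).trans (LinearMap.comp_zero _)
  · let vec : (M →ₗ[A] A) →ₗ[A] (Fin r → A) := LinearMap.pi fun j => LinearMap.applyₗ (π (Pi.single j 1))
    have hinj : Function.Injective vec := fun f f' hff =>
      (LinearMap.cancel_right hπ).1 ((Pi.basisFun A (Fin r)).ext fun j => by
        rw [Pi.basisFun_apply]
        exact congrFun hff j)
    have hmem : vec h ∈ (Submodule.span A {vec g} : Submodule A (Fin r → A)) := by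
      refine mem_of_forall_mem_sup hJ _ _ fun n => ?_
      obtain ⟨c, hc⟩ := (hgenA n).1 ((J ^ (n + 1)).mkQ ∘ₗ h)
      refine Submodule.mem_sup.2 ⟨c • vec g, Submodule.smul_mem _ _ (Submodule.mem_span_singleton_self _),
        vec h - c • vec g, mem_pow_smul_top_of_coord _ _ fun j => ?_, by abel⟩
      rw [← Submodule.Quotient.mk_eq_zero (p := J ^ (n + 1)), Pi.sub_apply, Submodule.Quotient.mk_sub, sub_eq_zero,
        Pi.smul_apply, Submodule.Quotient.mk_smul]
      exact LinearMap.congr_fun hc (π (Pi.single j 1))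
    obtain ⟨c, hc⟩ := Submodule.mem_span_singleton.1 hmem
    exact ⟨c, hinj (by rw [← hc]; exact map_smul vec c g)⟩

end Groth.Agent.ParaGr27
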