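import Groth.Agent.Lib.LocCoh.Grade
import Groth.Agent.Lib.LocCoh.Vanishing
import Mathlib.RingTheory.Filtration
import Mathlib.Algebra.Homology.DerivedCategory.Ext.EnoughProjectives

/-!
# `Ext` vanishing passes from all `A ⧸ J ^ (n + 1)` to `A`
-/

set_option autoImplicit false
set_option linter.style.haveILetI false

universe u

open CategoryTheory Abelian IsLocalRing

noncomputable section

namespace Groth.Agent.ParaGr27

open Groth.Agent.LocCohLib

variable {A : Type u} [CommRing A] [IsNoetherianRing A] [IsLocalRing A] {J : Ideal A}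

/-- `A ⧸ J ^ (n + 1)`. -/
abbrev Qn (J : Ideal A) (n : ℕ) : Type u := A ⧸ J ^ (n + 1)

/-- Membership in a submodule of a finite module is detected modulo all powers of `J`. -/
theorem mem_of_forall_mem_sup (hJ : J ≠ ⊤) {V : Type u} [AddCommGroup V] [Module A V] [Module.Finite A V]
    (R : Submodule A V) (v : V) (h : ∀ n : ℕ, v ∈ R ⊔ J ^ (n + 1) • (⊤ : Submodule A V)) : v ∈ R := by
  rw [← Submodule.Quotient.mk_eq_zero]
  have hb := Ideal.iInf_pow_smul_eq_bot_of_isLocalRing (M := V ⧸ R) J hJ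
  rw [← Submodule.mem_bot A, ← hb, Submodule.mem_iInf]
  intro n
  obtain ⟨r, hr, w, hw, rfl⟩ := Submodule.mem_sup.1 (h n)
  rw [Submodule.Quotient.mk_add, (Submodule.Quotient.mk_eq_zero R).2 hr, zero_add]
  have hle : J ^ (n + 1) • (⊤ : Submodule A V) ≤ (J ^ n • (⊤ : Submodule A (V ⧸ R))).comap R.mkQ := by
    rw [← Submodule.map_le_iff_le_comap, Submodule.map_smul'']
    exact Submodule.smul_mono (Ideal.pow_le_pow_right n.le_succ) le_top
  exact hle hw

theorem mem_pow_smul_top_of_coord {s : ℕ} (K : Ideal A) (w : Fin s → A) (h : ∀ i, w i ∈ K) :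
    w ∈ K • (⊤ : Submodule A (Fin s → A)) := by
  rw [show w = ∑ i, w i • (Pi.single i 1 : Fin s → A) by
    ext j; simp [Finset.sum_apply, Pi.single_apply]]
  exact sum_mem fun i _ => Submodule.smul_mem_smul (h i) trivial

theorem subsingleton_ext_zero (hJ : J ≠ ⊤) (Q : Type u) [AddCommGroup Q] [Module A Q]
    (h : ∀ n, Subsingleton (Ext (ModuleCat.of A Q) (ModuleCat.of A (Qn J n)) 0)) :
    Subsingleton (Ext (ModuleCat.of A Q) (ModuleCat.of A A) 0) := by
  suffices hh : ∀ f : ModuleCat.of A Q ⟶ ModuleCat.of A A, f = 0 from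
    ⟨fun x y => Ext.addEquiv₀.injective ((hh _).trans (hh _).symm)⟩
  intro f
  refine ModuleCat.hom_ext (LinearMap.ext fun q => ?_)
  have hb := Ideal.iInf_pow_eq_bot_of_isLocalRing J hJ
  show f.hom q = 0
  rw [← Submodule.mem_bot A, ← hb, Submodule.mem_iInf]
  intro n
  have h0 : f ≫ ModuleCat.ofHom (J ^ (n + 1)).mkQ = 0 :=
    Ext.addEquiv₀.symm.injective (@Subsingleton.elim _ (h n) _ _)
  have h1 : Submodule.Quotient.mk (p := J ^ (n + 1)) (f.hom q) = 0 :=
    congrArg (fun g : ModuleCat.of A Q ⟶ ModuleCat.of A (Qn J n) => g.hom q) h0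
  exact Ideal.pow_le_pow_right n.le_succ ((Submodule.Quotient.mk_eq_zero _).1 h1)

section shift

variable {S : ShortComplex (ModuleCat.{u} A)} (hS : S.ShortExact) {Y : ModuleCat.{u} A}

omit [IsNoetherianRing A] [IsLocalRing A] in
theorem exists_delta [Projective S.X₂] {i : ℕ} (x : Ext S.X₃ Y (i + 1)) :
    ∃ x₁ : Ext S.X₁ Y i, hS.extClass.comp x₁ (add_comm 1 i) = x :=
  Ext.contravariant_sequence_exact₃ hS _ x (Ext.eq_zero_of_projective _) _

omit [IsNoetherianRing A] [IsLocalRing A] in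
include hS in
theorem exists_extend (φ : S.X₁ ⟶ Y) (h : Subsingleton (Ext S.X₃ Y (0 + 1))) : ∃ ψ : S.X₂ ⟶ Y, S.f ≫ ψ = φ := by
  obtain ⟨x₂, hx₂⟩ := Ext.contravariant_sequence_exact₁ hS _ (Ext.mk₀ φ) (show 1 + 0 = 0 + 1 from rfl)
    (@Subsingleton.elim _ h _ _)
  obtain ⟨ψ, rfl⟩ := Ext.addEquiv₀.symm.surjective x₂
  change (Ext.mk₀ S.f).comp (Ext.mk₀ ψ) _ = _ at hx₂
  rw [Ext.mk₀_comp_mk₀] at hx₂
  exact ⟨ψ, Ext.addEquiv₀.symm.injective hx₂⟩

omit [IsNoetherianRing A] [IsLocalRing A] in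
theorem delta_extend (ψ : S.X₂ ⟶ Y) : hS.extClass.comp (Ext.mk₀ (S.f ≫ ψ)) (add_comm 1 0) = 0 := by
  rw [← Ext.mk₀_comp_mk₀]
  exact hS.extClass_comp_assoc _

omit [IsNoetherianRing A] [IsLocalRing A] in
include hS in
theorem subsingleton_ext_left [Projective S.X₂] {i : ℕ} (h : Subsingleton (Ext S.X₃ Y (i + 1 + 1))) :
    Subsingleton (Ext S.X₁ Y (i + 1)) := by
  refine subsingleton_of_forall_eq 0 fun z => ?_
  obtain ⟨y, hy⟩ := Ext.contravariant_sequence_exact₁ hS _ z (show 1 + (i + 1) = i + 1 + 1 by omega)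
    (@Subsingleton.elim _ h _ _)
  rw [← hy, show y = 0 from Ext.eq_zero_of_projective _, Ext.comp_zero]

omit [IsNoetherianRing A] [IsLocalRing A] in
include hS in
theorem subsingleton_ext_right [Projective S.X₂] {i : ℕ} (h : Subsingleton (Ext S.X₁ Y i)) :
    Subsingleton (Ext S.X₃ Y (i + 1)) := by
  refine subsingleton_of_forall_eq 0 fun x => ?_
  obtain ⟨x₁, rfl⟩ := exists_delta hS x
  rw [@Subsingleton.elim _ h x₁ 0, Ext.comp_zero]

end shift

theorem subsingleton_ext_succ (hJ : J ≠ ⊤) : ∀ (i : ℕ) (Q : Type u) [AddCommGroup Q] [Module A Q] [Module.Finite A Q],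
    (∀ n, Subsingleton (Ext (ModuleCat.of A Q) (ModuleCat.of A (Qn J n)) (i + 1))) →
    Subsingleton (Ext (ModuleCat.of A Q) (ModuleCat.of A A) (i + 1)) := by
  intro i
  induction i with
  | zero =>
    intro Q _ _ _ h
    obtain ⟨r, π, hπ⟩ := Module.Finite.exists_fin' A Q
    let K := LinearMap.ker π
    have hS := shortExact_mk K.subtype π K.injective_subtype hπ (LinearMap.exact_subtype_ker_map π)
    haveI : Projective (ShortComplex.moduleCatMk K.subtype π (LinearMap.exact_subtype_ker_map π).linearMap_comp_eq_zero).X₂ :=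
      projective_pi (R := A) r
    refine subsingleton_of_forall_eq 0 fun x => ?_
    obtain ⟨x₁, rfl⟩ := exists_delta hS x
    obtain ⟨φ, rfl⟩ := Ext.addEquiv₀.symm.surjective x₁
    obtain ⟨s, σ, hσ⟩ := Module.Finite.exists_fin' A K
    let R : ((Fin r → A) →ₗ[A] A) →ₗ[A] (Fin s → A) :=
      LinearMap.pi fun t => LinearMap.applyₗ (σ (Pi.single t 1) : Fin r → A)
    let φ' : K →ₗ[A] A := φ.hom
    let v : Fin s → A := fun t => φ' (σ (Pi.single t 1))
    have hv : v ∈ LinearMap.range R := by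
      refine mem_of_forall_mem_sup hJ _ _ fun n => ?_
      obtain ⟨ψ, hψ⟩ := exists_extend hS (φ ≫ ModuleCat.ofHom (J ^ (n + 1)).mkQ) (h n)
      haveI : Module.Projective A (Fin r → A) := inferInstance
      obtain ⟨Ψ, hΨ⟩ := Module.projective_lifting_property (J ^ (n + 1)).mkQ
        (ψ.hom : (Fin r → A) →ₗ[A] Qn J n) (Submodule.mkQ_surjective _)
      refine Submodule.mem_sup.2 ⟨R Ψ, ⟨Ψ, rfl⟩, v - R Ψ, mem_pow_smul_top_of_coord _ _ fun t => ?_, by abel⟩
      have hk : ψ.hom (σ (Pi.single t 1) : Fin r → A) = (J ^ (n + 1)).mkQ (φ' (σ (Pi.single t 1))) :=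
        LinearMap.congr_fun (congrArg ModuleCat.Hom.hom hψ) (σ (Pi.single t 1))
      have hk2 := (LinearMap.congr_fun hΨ (σ (Pi.single t 1) : Fin r → A)).trans hk
      rw [← Submodule.Quotient.mk_eq_zero (p := J ^ (n + 1)), Pi.sub_apply, Submodule.Quotient.mk_sub, sub_eq_zero]
      exact hk2.symm
    obtain ⟨Ψ, hΨ⟩ := hv
    have hext : φ' = Ψ ∘ₗ K.subtype :=
      (LinearMap.cancel_right hσ).1 ((Pi.basisFun A (Fin s)).ext fun t => by
        rw [Pi.basisFun_apply]
        exact (congrFun hΨ t).symm)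
    have hφ : φ = (ShortComplex.moduleCatMk K.subtype π (LinearMap.exact_subtype_ker_map π).linearMap_comp_eq_zero).f ≫
        ModuleCat.ofHom Ψ := ModuleCat.hom_ext hext
    rw [hφ]
    exact delta_extend hS _
  | succ i ih =>
    intro Q _ _ _ h
    obtain ⟨r, π, hπ⟩ := Module.Finite.exists_fin' A Q
    let K := LinearMap.ker π
    have hS := shortExact_mk K.subtype π K.injective_subtype hπ (LinearMap.exact_subtype_ker_map π)
    haveI : Projective (ShortComplex.moduleCatMk K.subtype π (LinearMap.exact_subtype_ker_map π).linearMap_comp_eq_zero).X₂ :=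
      projective_pi (R := A) r
    exact subsingleton_ext_right hS (ih K fun n => subsingleton_ext_left hS (h n))

theorem subsingleton_ext_self (hJ : J ≠ ⊤) (i : ℕ) (Q : Type u) [AddCommGroup Q] [Module A Q] [Module.Finite A Q]
    (h : ∀ n, Subsingleton (Ext (ModuleCat.of A Q) (ModuleCat.of A (Qn J n)) i)) :
    Subsingleton (Ext (ModuleCat.of A Q) (ModuleCat.of A A) i) := by
  cases i with
  | zero => exact subsingleton_ext_zero hJ Q h
  | succ i => exact subsingleton_ext_succ hJ i Q h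

/-- Vanishing of low local cohomology passes from all `A ⧸ J ^ (n + 1)` to the depth of `A`. -/
theorem natCast_le_depth_self (hJ : J ≠ ⊤) (k : ℕ)
    (h : ∀ n, ∀ i < k, Subsingleton (LocCoh.H (maximalIdeal A) i (Qn J n))) : (k : ℕ∞) ≤ LocCoh.depth A A := by
  refine (DepthLib.natCast_le_idealDepth_iff k).2 fun i hi => subsingleton_ext_self hJ i _ fun n => ?_
  exact (vanishing_below_iff (I := maximalIdeal A) (ModuleCat.of A (Qn J n)) k).1 (h n) _
    (DepthLib.support_quotient _).subset i hi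

end Groth.Agent.ParaGr27
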