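import Groth.Agent.Lib.ParaGr27.Alg
import Groth.Agent.Lib.ParaF27.UFDCrit
import Groth.Agent.Lib.FlatDepth.Fibre
import Groth.Agent.Lib.TensorMod.Invertible
import Groth.Agent.Lib.PunctFree27.SectionsFinite
import Groth.Agent.Lib.LocCoh.PunctCoh27

/-!
# Invertible modules on the punctured spectrum when `gr_J A` is free
-/

set_option autoImplicit false
set_option linter.style.haveILetI false

universe u

open CategoryTheory AlgebraicGeometry TopologicalSpace Opposite IsLocalRing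

noncomputable section

namespace Groth.Agent.ParaGr27

open Groth.Agent.M1 Groth.Agent.LocCohLib Groth.Agent.LocCohSheafLib Groth.Agent.InjHullLib

variable {A : Type u} [CommRing A] [IsLocalRing A]

theorem puncturedOpen_maximalIdeal : LocCoh.puncturedOpen A (maximalIdeal A) = FEt.puncturedSpec A := by
  ext x
  show ¬ (maximalIdeal A : Set A) ⊆ x.asIdeal ↔ ¬ x = closedPoint A
  exact not_congr ⟨fun hq => PrimeSpectrum.ext ((le_maximalIdeal x.2.ne_top).antisymm hq), fun hq => hq ▸ le_rfl⟩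

theorem not_le_asIdeal {p : Spec (CommRingCat.of A)} (hp : p ∈ LocCoh.puncturedOpen A (maximalIdeal A)) :
    ¬ maximalIdeal A ≤ (show PrimeSpectrum A from p).asIdeal := fun h =>
  hp ((PrimeSpectrum.mem_zeroLocus _ _).2 h)

variable {N : Type u} [AddCommGroup N] [Module A N]

/-- Local generators with a function which is a unit on them. -/
def LocData (A : Type u) [CommRing A] [IsLocalRing A] (N : Type u) [AddCommGroup N] [Module A N] : Prop :=
  ∀ p : PrimeSpectrum A, ¬ maximalIdeal A ≤ p.asIdeal → ∃ (g : A) (u : N) (ψ : N →ₗ[A] A) (k : ℕ),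
    g ∈ maximalIdeal A ∧ g ∉ p.asIdeal ∧ ψ u = g ^ k ∧
      (∀ x : N, ∃ (l : ℕ) (c : A), g ^ l • x = c • u) ∧ ∀ c : A, c • u = 0 → ∃ l : ℕ, g ^ l * c = 0

theorem exists_pow_mul_eq_zero {R : CommRingCat.{u}} (N : ModuleCat.{u} R) {U : (Spec R).Opens}
    {τ : Γ(tilde N, U)} (hτ : Twist.IsGen (tilde N) U τ) {g : R} (hg : bo g ≤ U) {u : N} {n : ℕ}
    (hu : g ^ n • mres (tilde N) hg τ = ParaF27.toΓ N (bo g) u) (c : R) (hc : c • u = 0) :
    ∃ l : ℕ, g ^ l * c = 0 := by
  have h1 : ParaF27.toΓ N (bo g) (c • u) = 0 := by rw [hc, map_zero]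
  rw [map_smul, ← hu, ← mul_smul, ← IsScalarTower.algebraMap_smul Γ(Spec R, bo g)] at h1
  have h2 : algebraMap R Γ(Spec R, bo g) (c * g ^ n) = 0 :=
    (hτ (bo g) hg).1 (h1.trans (zero_smul _ _).symm)
  obtain ⟨⟨_, l, rfl⟩, hl⟩ := (IsLocalization.map_eq_zero_iff (Submonoid.powers g) _ _).1 h2
  exact ⟨l + n, by rw [pow_add, mul_assoc, mul_comm (g ^ n)]; exact hl⟩

theorem locData_of_invertible (hfac : Fac A N)
    (hL : PicF.IsInvertible ((tilde (R := CommRingCat.of A) (ModuleCat.of A N)).restrict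
      (LocCoh.puncturedOpen A (maximalIdeal A)).ι)) : LocData A N := by
  intro p hp
  let R := CommRingCat.of A
  let M := tilde (R := R) (ModuleCat.of A N)
  set U := LocCoh.puncturedOpen A (maximalIdeal A)
  obtain ⟨V, hyV, ⟨eV⟩⟩ := hL ⟨p, fun h => hp ((PrimeSpectrum.mem_zeroLocus _ _).1 h)⟩
  let D := U.ι ''ᵁ V
  let eD : M.restrict D.ι ≅ Coh.structureModule (D : Scheme.{u}) :=
    (restrictRestrictIso M U.ι ((U.ι.isoImage V).inv ≫ V.ι) D.ι
        (by rw [Category.assoc, Scheme.Hom.isoImage_inv_ι])).symm ≪≫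
      (restrictRestrictIso (M.restrict U.ι) V.ι (U.ι.isoImage V).inv _ rfl).symm ≪≫
      (Scheme.Modules.restrictFunctor (U.ι.isoImage V).inv).mapIso eV ≪≫ Scheme.Modules.restrictUnitIso _
  obtain ⟨τ, hτ⟩ := ParaF27.exists_isGen_of_iso eD
  obtain ⟨_, ⟨g, rfl⟩, hgp, hgD⟩ := Opens.isBasis_iff_nbhd.mp (isBasis_bo (R := R))
    (show (p : Spec R) ∈ D from ⟨_, hyV, rfl⟩)
  have hgm : g ∈ maximalIdeal A := by
    by_contra h
    obtain ⟨y, -, hy⟩ := hgD (show (⟨maximalIdeal A, inferInstance⟩ : PrimeSpectrum A) ∈ bo (R := R) g from h)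
    have h2 : U.ι y ∈ U := y.2
    exact not_le_asIdeal (Eq.subst (motive := fun z => z ∈ U) hy h2) le_rfl
  obtain ⟨u, n, hu, hgen⟩ := ParaF27.exists_gen_of_isGen (ModuleCat.of R N) hτ hgD
  have hann : ∀ c : A, c • u = 0 → ∃ l : ℕ, g ^ l * c = 0 := fun c hc =>
    exists_pow_mul_eq_zero (ModuleCat.of R N) hτ hgD hu c hc
  obtain ⟨r, k, f, h, hfh⟩ := hfac g hgm
  choose l c hlc using fun i : Fin r => hgen (h (Pi.single i 1))
  let L := Finset.univ.sup l
  let c' : Fin r → A := fun i => g ^ (L - l i) * c i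
  have hc' : ∀ i, g ^ L • h (Pi.single i 1) = c' i • u := fun i => by
    rw [mul_smul, ← hlc, ← mul_smul, ← pow_add, Nat.sub_add_cancel (Finset.le_sup (Finset.mem_univ i))]
  let ψ₀ : N →ₗ[A] A := (Fintype.linearCombination A c') ∘ₗ f
  have hψ₀ : ψ₀ u • u = g ^ (L + k) • u := by
    have h1 : h (f u) = g ^ k • u := LinearMap.congr_fun hfh u
    rw [pow_add, mul_smul, ← h1]
    conv_rhs => rw [pi_eq_sum_univ' (f u), map_sum, Finset.smul_sum]
    simp only [ψ₀, LinearMap.comp_apply, Fintype.linearCombination_apply, Finset.sum_smul]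
    refine Finset.sum_congr rfl fun i _ => ?_
    rw [map_smul, smul_comm, hc', smul_eq_mul, mul_smul]
  obtain ⟨m, hm⟩ := hann (ψ₀ u - g ^ (L + k)) (by rw [sub_smul, hψ₀, sub_self])
  refine ⟨g, u, g ^ m • ψ₀, m + (L + k), hgm, hgp, ?_, hgen, hann⟩
  rw [mul_sub, sub_eq_zero] at hm
  rw [LinearMap.smul_apply, smul_eq_mul, hm, ← pow_add]

/-- A submodule containing enough multiples away from the closed point contains the powers of the ideal. -/
theorem exists_pow_smul_mem [IsNoetherianRing A] {X : Type u} [AddCommGroup X] [Module A X] (S : Submodule A X)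
    (x : X) (h : ∀ p : PrimeSpectrum A, ¬ maximalIdeal A ≤ p.asIdeal → ∃ s ∉ p.asIdeal, s • x ∈ S)
    (a : A) (ha : a ∈ maximalIdeal A) : ∃ k : ℕ, a ^ k • x ∈ S := by
  have : a ∈ Ideal.radical (S.comap (LinearMap.toSpanSingleton A X x) : Ideal A) := by
    rw [Ideal.radical_eq_sInf, Submodule.mem_sInf]
    rintro P ⟨hle, hP⟩
    by_contra haP
    obtain ⟨s, hs, hsx⟩ := h ⟨P, hP⟩ fun hm => haP (hm ha)
    exact hs (hle hsx)
  exact this

variable [IsNoetherianRing A]

/-- A map killed elementwise by powers of `g` is killed by one power. -/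
theorem exists_pow_smul_hom_eq_zero [Module.Finite A N] {X : Type u} [AddCommGroup X] [Module A X] (δ : N →ₗ[A] X)
    (g : A) (h : ∀ x, ∃ l : ℕ, g ^ l • δ x = 0) : ∃ l : ℕ, g ^ l • δ = 0 := by
  obtain ⟨r, π, hπ⟩ := Module.Finite.exists_fin' A N
  choose l hl using fun i : Fin r => h (π (Pi.single i 1))
  refine ⟨Finset.univ.sup l, (LinearMap.cancel_right hπ).1 ((Pi.basisFun A (Fin r)).ext fun i => ?_)⟩
  rw [Pi.basisFun_apply, LinearMap.comp_apply, LinearMap.comp_apply, LinearMap.smul_apply, LinearMap.zero_apply,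
    ← Nat.sub_add_cancel (Finset.le_sup (f := l) (Finset.mem_univ i)), pow_add, mul_smul, hl, smul_zero]

/-- A generator of the dual trivialises the sheaf on the punctured spectrum. -/
theorem nonempty_iso_of_dual_equiv [Module.Finite A N] (hd : LocData A N) (e : (N →ₗ[A] A) ≃ₗ[A] A) :
    Nonempty ((tilde (R := CommRingCat.of A) (ModuleCat.of A N)).restrict
      (LocCoh.puncturedOpen A (maximalIdeal A)).ι ≅ Coh.structureModule _) := by
  classical
  let φ : N →ₗ[A] A := e.symm 1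
  have hφ : ∀ ψ : N →ₗ[A] A, ψ = e ψ • φ := fun ψ => e.injective (by
    rw [map_smul, e.apply_symm_apply, smul_eq_mul, mul_one])
  obtain ⟨gs, hgs⟩ : (maximalIdeal A).FG := IsNoetherian.noetherian _
  have hloc : ∀ a ∈ gs, Function.Bijective (LocalizedModule.map (Submonoid.powers a) φ) := by
    intro a ha
    have ham : a ∈ maximalIdeal A := hgs ▸ Submodule.subset_span ha
    refine ⟨(injective_iff_map_eq_zero _).2 fun y hy => ?_, fun y => ?_⟩
    · induction y using LocalizedModule.induction_on with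
      | h x s =>
        rw [LocalizedModule.map_mk, PunctFree27.mk_eq_zero_iff'] at hy
        obtain ⟨⟨_, l, rfl⟩, hl⟩ := hy
        have hl' : φ (a ^ l • x) = 0 := by rw [map_smul]; exact hl
        obtain ⟨k, hk⟩ := exists_pow_smul_mem (⊥ : Submodule A N) (a ^ l • x) (fun p hp => by
          obtain ⟨g, u, ψ, k, -, hgp, hψu, hgen, hann⟩ := hd p hp
          obtain ⟨m, c, hc⟩ := hgen (a ^ l • x)
          have h0 : ψ (g ^ m • a ^ l • x) = 0 := by
            rw [hφ ψ, LinearMap.smul_apply, map_smul φ, hl', smul_zero, smul_zero]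
          rw [hc, map_smul, hψu, smul_eq_mul] at h0
          refine ⟨g ^ (k + m), fun h => hgp (p.isPrime.mem_of_pow_mem _ h), (Submodule.mem_bot A).2 ?_⟩
          rw [pow_add, mul_smul, hc, ← mul_smul, mul_comm, h0, zero_smul]) a ham
        rw [PunctFree27.mk_eq_zero_iff']
        refine ⟨⟨a ^ (k + l), k + l, rfl⟩, ?_⟩
        show a ^ (k + l) • x = 0
        rw [pow_add, mul_smul]
        exact (Submodule.mem_bot A).1 hk
    · induction y using LocalizedModule.induction_on with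
      | h m s =>
        obtain ⟨k, hk⟩ := exists_pow_smul_mem (LinearMap.range φ) m (fun p hp => by
          obtain ⟨g, u, ψ, k, -, hgp, hψu, -, -⟩ := hd p hp
          refine ⟨g ^ k, fun h => hgp (p.isPrime.mem_of_pow_mem _ h), (m * e ψ) • u, ?_⟩
          rw [map_smul, mul_smul, ← LinearMap.smul_apply (e ψ) φ u, ← hφ ψ, hψu, smul_eq_mul, smul_eq_mul, mul_comm]) a ham
        obtain ⟨x, hx⟩ := hk
        refine ⟨LocalizedModule.mk x ((⟨a ^ k, k, rfl⟩ : Submonoid.powers a) * s), ?_⟩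
        rw [LocalizedModule.map_mk, hx]
        exact LocalizedModule.mk_cancel_common_left (⟨a ^ k, k, rfl⟩ : Submonoid.powers a) s m
  have hiso := PunctFree27.isIso_restrict_tilde_map (maximalIdeal A) (M₀ := ModuleCat.of A N) (M := ModuleCat.of A A)
    (ModuleCat.ofHom φ) gs hgs hloc
  exact ⟨@asIso _ _ _ _ _ hiso ≪≫
    (Scheme.Modules.restrictFunctor _).mapIso (tildeSelf (R := CommRingCat.of A)) ≪≫
    Scheme.Modules.restrictUnitIso _⟩

theorem van_iff_natCast_le_depth {X : Type u} [AddCommGroup X] [Module A X] [Module.Finite A X] (n : ℕ) :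
    (∀ i < n, Van A X i) ↔ (n : ℕ∞) ≤ LocCoh.depth A X :=
  (vanishing_below_iff_of_support_eq (I := maximalIdeal A) (ModuleCat.of A X) (A ⧸ maximalIdeal A)
    (DepthLib.support_quotient _) n).trans (DepthLib.natCast_le_idealDepth_iff n).symm

/-- Global sections detect isomorphisms of depth two modules. -/
theorem bijective_toS {X : Type u} [AddCommGroup X] [Module A X] (h0 : Van A X 0) (h1 : Van A X 1) :
    Function.Bijective (toS X (LocCoh.puncturedOpen A (maximalIdeal A))) := by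
  refine ⟨(injective_iff_map_eq_zero _).2 fun x hx => ?_, ?_⟩
  · rw [toS_eq_zero_iff, (subsingleton_zero_iff _).1 h0] at hx
    exact (Submodule.mem_bot A).1 hx
  · obtain ⟨e⟩ := nonempty_coker_toS_equiv (maximalIdeal A) X
    haveI := e.toEquiv.subsingleton
    exact LinearMap.range_eq_top.1 (Submodule.Quotient.subsingleton_iff.1 inferInstance)

/-- Maps to `A ⧸ J` are free of rank one when `A ⧸ J` has trivial punctured Picard group. -/
theorem nonempty_e1 [Module.Finite A N] (J : Ideal A) [IsLocalRing (A ⧸ J)]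
    (hd3 : (3 : ℕ∞) ≤ LocCoh.depth (A ⧸ J) (A ⧸ J)) (hfac : Fac A N) (hd : LocData A N)
    (h0 : ∀ L : (↑(LocCoh.puncturedOpen (A ⧸ J) (maximalIdeal (A ⧸ J))) : Scheme.{u}).Modules,
      PicF.IsInvertible L → Nonempty (L ≅ Coh.structureModule _)) :
    Nonempty ((N →ₗ[A] Qn J 0) ≃ₗ[A] Qn J 0) := by
  have hs : Function.Surjective (algebraMap A (A ⧸ J)) := Ideal.Quotient.mk_surjective
  let N0 := N ⧸ (J • (⊤ : Submodule A N))
  haveI : Module.Finite (A ⧸ J) N0 := Module.Finite.of_restrictScalars_finite A _ _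
  have hm : maximalIdeal A ≤ (maximalIdeal (A ⧸ J)).comap (algebraMap A (A ⧸ J)) :=
    (IsLocalRing.eq_maximalIdeal (Ideal.comap_isMaximal_of_surjective (K := maximalIdeal (A ⧸ J)) _ hs)).ge
  have hfac0 : Fac (A ⧸ J) N0 := by
    intro a0 ha0
    obtain ⟨a, rfl⟩ := hs a0
    have ha : a ∈ maximalIdeal A := by
      rw [← IsLocalRing.eq_maximalIdeal (Ideal.comap_isMaximal_of_surjective (K := maximalIdeal (A ⧸ J)) _ hs)]
      exact ha0
    obtain ⟨r, k, f, g, hfg⟩ := hfac a ha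
    let mk : (Fin r → A) →ₗ[A] (Fin r → A ⧸ J) := LinearMap.pi fun i => J.mkQ ∘ₗ LinearMap.proj i
    have hle : J • (⊤ : Submodule A N) ≤ LinearMap.ker (mk ∘ₗ f) := by
      refine Submodule.smul_le.2 fun b hb x _ => funext fun i => ?_
      rw [map_smul]
      show b • (Submodule.Quotient.mk (f x i) : A ⧸ J) = 0
      rw [← Submodule.Quotient.mk_smul, Submodule.Quotient.mk_eq_zero]
      exact J.mul_mem_right _ hb
    let f0 : N0 →ₗ[A ⧸ J] (Fin r → A ⧸ J) :=
      LinearMap.extendScalarsOfSurjective hs ((J • (⊤ : Submodule A N)).liftQ _ hle)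
    let g0 : (Fin r → A ⧸ J) →ₗ[A ⧸ J] N0 :=
      (Pi.basisFun (A ⧸ J) (Fin r)).constr (A ⧸ J) fun i => Submodule.Quotient.mk (g (Pi.single i 1))
    refine ⟨r, k, f0, g0, LinearMap.ext fun z => ?_⟩
    obtain ⟨x, rfl⟩ := Submodule.Quotient.mk_surjective _ z
    have h1 : g (f x) = a ^ k • x := LinearMap.congr_fun hfg x
    show g0 (mk (f x)) = algebraMap A (A ⧸ J) a ^ k • (Submodule.Quotient.mk x : N0)
    rw [← map_pow, IsScalarTower.algebraMap_smul, ← Submodule.Quotient.mk_smul, ← h1]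
    conv_rhs => rw [pi_eq_sum_univ' (f x), map_sum, ← Submodule.mkQ_apply, map_sum]
    rw [Module.Basis.constr_apply_fintype]
    refine Finset.sum_congr rfl fun i _ => ?_
    rw [Pi.basisFun_equivFun, LinearEquiv.refl_apply, map_smul, map_smul, Submodule.mkQ_apply]
    exact IsScalarTower.algebraMap_smul (A ⧸ J) (f x i) _
  -- comparison with linear maps over `A ⧸ J`
  let D0 := N0 →ₗ[A ⧸ J] A ⧸ J
  have hle : ∀ f : N →ₗ[A] A ⧸ J, J • (⊤ : Submodule A N) ≤ LinearMap.ker f := fun f =>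
    Submodule.smul_le.2 fun b hb x _ => by
      rw [LinearMap.mem_ker, map_smul, Algebra.smul_def,
        show algebraMap A (A ⧸ J) b = 0 from Ideal.Quotient.eq_zero_iff_mem.2 hb, zero_mul]
  let E : (N →ₗ[A] A ⧸ J) ≃ₗ[A] D0 :=
    { toFun := fun f => LinearMap.extendScalarsOfSurjective hs ((J • (⊤ : Submodule A N)).liftQ f (hle f))
      map_add' := fun f g => LinearMap.ext fun z => by
        obtain ⟨x, rfl⟩ := Submodule.Quotient.mk_surjective _ z; rfl
      map_smul' := fun c f => LinearMap.ext fun z => by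
        obtain ⟨x, rfl⟩ := Submodule.Quotient.mk_surjective _ z; rfl
      invFun := fun h => h.restrictScalars A ∘ₗ (J • (⊤ : Submodule A N)).mkQ
      left_inv := fun f => LinearMap.ext fun x => rfl
      right_inv := fun h => LinearMap.ext fun z => by
        obtain ⟨x, rfl⟩ := Submodule.Quotient.mk_surjective _ z; rfl }
  have hD0 : PicF.IsInvertible ((tilde (R := CommRingCat.of (A ⧸ J)) (ModuleCat.of (A ⧸ J) D0)).restrict
      (LocCoh.puncturedOpen (A ⧸ J) (maximalIdeal (A ⧸ J))).ι) := by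
    refine Twist.isInvertible_restrict _ _ fun y => ?_
    let q : PrimeSpectrum (A ⧸ J) := (LocCoh.puncturedOpen (A ⧸ J) (maximalIdeal (A ⧸ J))).ι y
    have hq : ¬ maximalIdeal (A ⧸ J) ≤ q.asIdeal := not_le_asIdeal y.2
    obtain ⟨g, u, ψ, k, -, hgq, hψu, hgen, hann⟩ := hd (PrimeSpectrum.comap (algebraMap A (A ⧸ J)) q) fun h => hq fun b hb => by
      obtain ⟨a, rfl⟩ := hs b
      refine h ?_
      rw [← IsLocalRing.eq_maximalIdeal (Ideal.comap_isMaximal_of_surjective (K := maximalIdeal (A ⧸ J)) _ hs)]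
      exact hb
    let ψ0 : D0 := E (J.mkQ ∘ₗ ψ)
    refine ⟨bo (R := CommRingCat.of (A ⧸ J)) (algebraMap A (A ⧸ J) g), hgq, Twist.nonempty_restrict_iso _ _ _
      (ParaF27.isGen_tilde_of_locGen (R := CommRingCat.of (A ⧸ J)) (ModuleCat.of (A ⧸ J) D0) (q := ψ0) ⟨fun h => ?_, fun c hc => ?_⟩)⟩
    · obtain ⟨c0, hc0⟩ := hs ((h : D0) (Submodule.Quotient.mk u))
      let f := E.symm h
      obtain ⟨l, hl⟩ := exists_pow_smul_hom_eq_zero (g ^ k • f - c0 • (J.mkQ ∘ₗ ψ)) g fun x => by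
        obtain ⟨l, c, hc⟩ := hgen x
        refine ⟨l, ?_⟩
        rw [← map_smul, hc, map_smul, LinearMap.sub_apply, LinearMap.smul_apply, LinearMap.smul_apply,
          show f u = algebraMap A (A ⧸ J) c0 from hc0.symm, LinearMap.comp_apply, hψu]
        simp only [Submodule.mkQ_apply, Algebra.smul_def]
        show algebraMap A (A ⧸ J) c * (algebraMap A (A ⧸ J) (g ^ k) * algebraMap A (A ⧸ J) c0 -
          algebraMap A (A ⧸ J) c0 * algebraMap A (A ⧸ J) (g ^ k)) = 0
        ring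
      refine ⟨l + k, algebraMap A (A ⧸ J) (g ^ l * c0), ?_⟩
      rw [smul_sub, sub_eq_zero, ← mul_smul, ← mul_smul, ← pow_add] at hl
      have := congrArg E hl
      rw [map_smul, map_smul, E.apply_symm_apply] at this
      rw [← map_pow, IsScalarTower.algebraMap_smul, IsScalarTower.algebraMap_smul]
      exact this
    · obtain ⟨b, rfl⟩ := hs c
      have h1 : algebraMap A (A ⧸ J) b * algebraMap A (A ⧸ J) (g ^ k) = 0 := by
        rw [← hψu]
        exact LinearMap.congr_fun (hc : algebraMap A (A ⧸ J) b • ψ0 = 0) (Submodule.Quotient.mk u)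
      exact ⟨k, by rw [← map_pow]; exact (mul_comm _ _).trans h1⟩
  obtain ⟨i⟩ := h0 _ hD0
  have hvA : ∀ j < 3, Van (A ⧸ J) (A ⧸ J) j := (van_iff_natCast_le_depth 3).2 hd3
  let U0 := LocCoh.puncturedOpen (A ⧸ J) (maximalIdeal (A ⧸ J))
  let eD : D0 ≃ₗ[A ⧸ J] (A ⧸ J) :=
    (LinearEquiv.ofBijective _ (bijective_toS (van_zero_hom (hvA 0 (by omega))) (van_one_hom (hvA 0 (by omega)) (hvA 1 (by omega))))).trans
      ((secTopH (maximalIdeal (A ⧸ J)) D0).symm.trans
        ((CurveCoh17.hequiv (A ⧸ J) (i ≪≫ (Scheme.Modules.restrictUnitIso U0.ι).symm ≪≫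
          (Scheme.Modules.restrictFunctor U0.ι).mapIso (tildeSelf (R := CommRingCat.of (A ⧸ J))).symm) 0).trans
          ((secTopH (maximalIdeal (A ⧸ J)) (A ⧸ J)).trans
            (LinearEquiv.ofBijective _ (bijective_toS (hvA 0 (by omega)) (hvA 1 (by omega)))).symm)))
  let q1 : (A ⧸ J) ≃ₗ[A] Qn J 0 := Submodule.quotEquivOfEq _ _ (pow_one J).symm
  exact ⟨(LinearEquiv.congrRight q1.symm).trans (E.trans ((eD.restrictScalars A).trans q1))⟩

/-- Parafactoriality lifts from `A ⧸ J` when the graded pieces are free. -/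
theorem picTrivial_and_depth (J : Ideal A) (hJ : J ≠ ⊤) [IsLocalRing (A ⧸ J)]
    (hd3 : (3 : ℕ∞) ≤ LocCoh.depth (A ⧸ J) (A ⧸ J)) (hgr : GrFree J)
    (h0 : ∀ L : (↑(FEt.puncturedSpec (A ⧸ J)) : Scheme.{u}).Modules,
      PicF.IsInvertible L → Nonempty (L ≅ Coh.structureModule _)) :
    (3 : ℕ∞) ≤ LocCoh.depth A A ∧ ∀ L : (↑(FEt.puncturedSpec A) : Scheme.{u}).Modules,
      PicF.IsInvertible L → Nonempty (L ≅ Coh.structureModule _) := by
  have hd : ∀ i < 3, Van A (Qn J 0) i := fun i hi => by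
    have h1 : ∀ j < 3, Van A (A ⧸ J) j := (van_iff_natCast_le_depth 3).2 (by
      rw [FlatDepth.depth_eq_of_surjective (A := A) (B := A ⧸ J) (M := A ⧸ J) Ideal.Quotient.mk_surjective]
      exact hd3)
    exact @Equiv.subsingleton _ _ (hcongr _ i (Submodule.quotEquivOfEq _ _ (pow_one J))).toEquiv (h1 i hi)
  refine ⟨three_le_depth_self hgr hd hJ, ?_⟩
  rw [← puncturedOpen_maximalIdeal] at h0 ⊢
  intro L hL
  obtain ⟨N, _, hproj, ⟨eN⟩⟩ := PunctFree27.exists_model (maximalIdeal A) L (IsNoetherian.noetherian _)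
    (M2.isFinLocFree_of_isInvertible hL)
  haveI : Module.Finite A N := inferInstance
  have hfac : Fac A N := fun a ha => by
    obtain ⟨r, π, hπ⟩ := Module.Finite.exists_fin' A N
    haveI := hproj a ha
    obtain ⟨k, s, hs⟩ := PunctFree27.exists_factor_free a π hπ
    exact ⟨r, k, s, π, hs⟩
  have hld := locData_of_invertible hfac (Twist.isInvertible_of_iso eN.symm hL)
  obtain ⟨e1⟩ := nonempty_e1 J hd3 hfac hld h0
  obtain ⟨e⟩ := nonempty_dual_equiv hgr hd hfac e1 hJ
  obtain ⟨i⟩ := nonempty_iso_of_dual_equiv hld e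
  exact ⟨eN.symm ≪≫ i⟩

end Groth.Agent.ParaGr27
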